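import Cfsg.Agent.Lib.Helper28.TCChain
import Cfsg.Agent.Lib.Helper93.G24.PD

set_option autoImplicit false
set_option maxRecDepth 100000

namespace Cfsg.Agent.Lib.Helper93.G24.Coll

open Cfsg.Agent.Lib.Helper28

noncomputable def tabC0 : Tr := .leaf 0x4424023c23826436035c35034c300069b0000000000000000000008c4000000884000000a430009c30000c10001821421026c0000000283243340041080
noncomputable def auxC0 : Tr := .leaf 0x30930e30b31328928b24920920e000729000000000000000000000883000000843000000a0300098300008300004e04b053000000000243203000003000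
noncomputable def tabC1 : Tr := .leaf 0x9450000000000000000000000000000000000002c22820000001c1000000000000000000000101000000142a800000007837430000816800003c34800412000c0
noncomputable def auxC1 : Tr := .leaf 0x34c0000000000000000000000000000000000001e61cc0000001840000000000000000000000c400000008c000000000744704000044000000384000004000000
noncomputable def tabC2 : Tr := .leaf 0x946482000000000000ac50000003020000000000000002010002160000000000000001c2000000000000ac70c1980000000000081700503000540041380240100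
noncomputable def auxC2 : Tr := .leaf 0x905360000000000000aa80000002150000000000000001c50006d70000000000000000d50000000000009170850000000000000450004c5000000005000000000
noncomputable def tabC3 : Tr := .leaf 0x944000000000000a8500000000000024100000020100000000024f0001c20000000000000000000000c1ac09c00009000008007400006000410003c0280140
noncomputable def auxC3 : Tr := .leaf 0x361000000000000a470000000000002070000001c70000000007f000012d000000000000000000000087000000000000000000000000000007000000000000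
noncomputable def tabC4 : Tr := .leaf 0x88400000000000000030200000000024100000020121a0000000001c2000251000000000000000000000307000a009430810008407806430415804c04002c0180
noncomputable def auxC4 : Tr := .leaf 0x3640000000000000002960000000002060000001c6750000000000156000810000000000000000000000910000000906046000000000606006000000000000000
noncomputable def tabC5 : Tr := .leaf 0x8469063410000000002c1a85281241ac500020100000000069d6dc18134a1412510000000000000c12922c7000a400009408c08807c00416405c05004403001c0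
noncomputable def auxC5 : Tr := .leaf 0x8028c2302000000000282a65242202aaa0001c200000000064279d142a111025f1000000000000082891911000000000000000000000002000000000000000000
noncomputable def tabC6 : Tr := .leaf 0x14f0c760984d80d08d3c644841160b5d064e69e7593df69521d0975d15903e10533d044a40e3880953d716204e24c0d62981601d40de0e21520640c9063063000
noncomputable def auxC6 : Tr := .leaf 0x34d90d8d832730d314919a488324dfa8893368a2921cf5ac66e65a61baab278176ab40c89d8a542352f739c95e84a40a3ca71254866f58f60802346238f1b9000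
noncomputable def dC : Tr := .leaf 0x3433413053043033022852832452052042031c51c41c31c21c01811451431051041020c50c40c1085084083082080045044043042041005004003002001000000
noncomputable def tabCols : List Tr := [tabC0, tabC1, tabC2, tabC3, tabC4, tabC5, tabC6]
noncomputable def auxCols : List Tr := [auxC0, auxC1, auxC2, auxC3, auxC4, auxC5, auxC6]
def pairsC : List ((List ℕ × ℕ × List ℕ) × ℕ) := [
  (([5], 5, []), 30720),
  (([0], 0, []), 25600),
  (([1], 1, []), 26624),
  (([2], 2, []), 27648),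
  (([4], 4, []), 29696),
  (([3], 3, []), 28672),
  (([5], 6, [6, 5]), 30720),
  (([5], 0, [0, 5]), 10241),
  (([6, 5], 6, [5]), 30721),
  (([3], 0, [0, 3]), 8193),
  (([3], 1, [1, 3]), 12289),
  (([3], 6, [6, 3]), 28672),
  (([4], 0, [0, 4]), 9217),
  (([4, 6], 6, [6, 4, 6]), 29696),
  (([6], 4, [4]), 29696),
  (([6], 5, [5]), 30720),
  (([1], 6, [6, 1]), 26624),
  (([2], 0, [0, 2]), 7169),
  (([2], 6, [6, 2]), 27648),
  (([5], 2, [2, 5]), 17409),
  (([5], 4, [4, 5]), 20481),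
  (([6], 2, [2]), 27648),
  (([6, 0], 6, [0]), 25601),
  (([], 6, [2, 1, 0, 5, 4, 3, 1]), 24582),
  (([], 6, [2, 1, 2, 6, 1, 2, 1]), 11264),
  (([], 6, [3, 4, 6, 3, 4, 3, 4, 6]), 18433),
  (([], 6, [5, 6, 6, 2, 6, 1, 0, 6, 5, 6, 2, 6, 1, 0, 6, 6, 6, 6, 5, 6, 6, 2, 6, 1, 0, 6, 5, 6, 2, 6, 1, 0, 6, 6, 6, 6, 5, 6, 6, 2, 6, 1, 0, 6]), 22528),
  (([0], 5, [5, 0]), 10240),
  (([0], 6, [6, 0]), 25600),
  (([0], 6, [6, 0, 6]), 25600),
  (([1], 2, [2, 1, 2, 1]), 11264),
  (([1], 3, [2, 1, 0, 5, 4]), 24582),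
  (([1], 6, [6, 1, 6]), 26624),
  (([1, 6, 2, 6, 6, 3, 2, 6, 6, 3, 1, 6, 2, 6, 6, 3, 2, 6, 6, 3, 1, 6, 2, 6, 6, 3, 2, 6, 6, 3, 1, 6, 2, 6, 6, 3, 2, 6, 6, 3, 1, 6, 2, 6, 6, 3, 2, 6, 6, 3, 4, 6, 1, 6, 2, 6, 6, 3, 2, 6, 6, 3, 1, 6, 2, 6, 6, 3, 2, 6, 6, 3, 1, 6, 2, 6, 6, 3, 2, 6, 6, 3, 1, 6, 2, 6, 6, 3, 2, 6, 6, 3, 1, 6, 2, 6, 6, 3, 2, 6, 6, 3, 4, 6, 1, 6, 2, 6, 6, 3, 2, 6, 6, 3, 1, 6, 2, 6, 6, 3, 2, 6, 6, 3, 1, 6, 2, 6, 6, 3, 2, 6, 6, 3, 1, 6, 2, 6, 6, 3, 2, 6, 6, 3, 1, 6, 2, 6, 6, 3, 2, 6, 6, 3, 4, 6], 6, []), 23552),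
  (([3], 4, [1, 2, 1, 0, 5]), 24584),
  (([3, 5, 3], 5, []), 19456),
  (([4], 1, [1, 4]), 13313),
  (([4], 6, [6, 4]), 29696),
  (([4, 2, 4], 2, []), 16385),
  (([4, 5], 0, [3, 1, 2, 6, 1]), 24586),
  (([4, 5, 4], 5, []), 20480),
  (([4, 6], 6, [6, 4]), 29696),
  (([4, 6, 5, 0, 1, 2], 6, [3, 1]), 24586),
  (([5], 3, [3, 5]), 19457),
  (([5], 6, [1, 5, 1, 5, 6, 1]), 14337),
  (([5, 6], 6, [6, 5, 6]), 30720),
  (([6], 3, [3]), 28672),
  (([6], 5, [5, 6]), 30720),
  (([6, 0], 6, [0, 6]), 25601),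
  (([6, 0, 6], 6, [0]), 25601),
  (([6, 2], 6, [2, 6]), 27649),
  (([6, 2, 6], 6, [2]), 27649),
  (([6, 4], 6, [4]), 29697),
  (([6, 4], 6, [4, 6]), 29697),
  (([6, 5], 6, [5, 6, 6]), 30721),
  (([6, 5, 6], 6, [5]), 30721)]
def subL : List ℕ := []
noncomputable def D : UB where
  tab := field tabCols 6 63 12 4095
  aux := field auxCols 6 63 12 4095
  dinfo := field [dC] 6 63 12 4095 0
  rb := 6
  RM := 63
  pb := 6
  PM := 63
  m := 43
  K := 6
  Kall := 7
  pairs := pairsC.map Prod.fst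
  isSub := fun x => subL.contains x
  fuel := 8
def ren : ℕ → ℕ
  | 0 => 0
  | 1 => 1
  | 2 => 2
  | 3 => 3
  | 4 => 4
  | 5 => 5
  | _ => 0
def linv : ℕ → ℕ
  | 0 => 0
  | 1 => 1
  | 2 => 2
  | 3 => 3
  | 4 => 4
  | 5 => 5
  | x => x
def relsL : List (List ℕ) := [
  [0, 0],
  [1, 1],
  [2, 2],
  [3, 3],
  [4, 4],
  [5, 5],
  [0, 1, 0, 1, 0, 1, 0, 1, 0, 1],
  [0, 2, 0, 2],
  [0, 3, 0, 3],
  [0, 4, 0, 4],
  [0, 5, 0, 5],
  [1, 2, 1, 2, 1, 2],
  [1, 3, 1, 3],
  [1, 4, 1, 4],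
  [1, 5, 1, 5, 1, 5],
  [2, 3, 2, 3, 2, 3, 2, 3, 2, 3, 2, 3, 2, 3, 2, 3],
  [2, 4, 2, 4],
  [2, 5, 2, 5],
  [3, 4, 3, 4, 3, 4],
  [3, 5, 3, 5],
  [4, 5, 4, 5],
  [0, 3, 2, 3, 2, 3, 2, 3, 2],
  [0, 1, 2, 5, 0, 1, 2, 5, 0, 1, 2, 5, 0, 1, 2, 5, 0, 1, 2, 5],
  [1, 2, 3, 2, 3, 1, 2, 3, 2, 3, 1, 2, 3, 2, 3, 1, 2, 3, 2, 3, 1, 2, 3, 2, 3, 4, 1, 2, 3, 2, 3, 1, 2, 3, 2, 3, 1, 2, 3, 2, 3, 1, 2, 3, 2, 3, 1, 2, 3, 2, 3, 4, 1, 2, 3, 2, 3, 1, 2, 3, 2, 3, 1, 2, 3, 2, 3, 1, 2, 3, 2, 3, 1, 2, 3, 2, 3, 4],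
  [0, 1, 2, 1, 3, 4, 5]]
noncomputable def Lk : Link where
  D := D
  ren := ren
  inv := linv
  rels := relsL
  pairsC := pairsC
  subL := subL
  n := 1
theorem chk_0 : allRange D.checkLabel 0 43 = true := by decide +kernel
theorem check_all : ∀ c < D.m, D.checkLabel c = true := by
  intro c hc
  have hc' : c < 43 := hc
  by_cases h0 : c < 43
  · exact allRange_iff.mp chk_0 c (by omega) (by omega)
  omega
theorem pairs_ok : pairsC.all (pairOK (relsAll relsL linv 7) linv 6 7) = true := by decide +kernel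
theorem relsK_ok : ∀ r ∈ relsAll relsL linv 7, ∀ y ∈ r, y < 7 := by decide +kernel
theorem core : Lk.Core (Cfsg.Agent.Lib.Helper93.G24.pd.words ++ [[0, 1, 2, 1, 3, 4, 5]]) Cfsg.Agent.Lib.Helper93.G24.pd.inv Cfsg.Agent.Lib.Helper93.G24.pd.K [] where
  Kall := rfl
  invK := by decide +kernel
  invE := rfl
  relsIn := by decide +kernel
  Dpairs := rfl
  pairs := pairs_ok
  relsK := relsK_ok
  isSub := by
    intro x hx
    have hx' : subL.contains x = true := hx
    show x ∈ subL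
    simpa using hx'
  sub := by decide +kernel
  check := check_all
theorem fin_all : allBelow D.finalLabel 43 = true := by decide +kernel
theorem live_count : D.liveCount = 1 := by decide +kernel
theorem h0_ok : D.tg D.K 0 = 0 := by decide +kernel
theorem ok : Lk.OK (Cfsg.Agent.Lib.Helper93.G24.pd.words ++ [[0, 1, 2, 1, 3, 4, 5]]) Cfsg.Agent.Lib.Helper93.G24.pd.inv Cfsg.Agent.Lib.Helper93.G24.pd.K [0, 1, 2, 3, 4, 5] [] where
  toCore := core
  gens := by decide +kernel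
  hm := by decide
  h0 := h0_ok
  fin := allBelow_iff.mp fin_all
  count := live_count

end Cfsg.Agent.Lib.Helper93.G24.Coll
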